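import Cfsg.Agent.Lib.Chev.TwF4Two
import Cfsg.Agent.Lib.TitsMult.OddData
import Cfsg.Agent.Lib.TitsMult.Data

/-!
Kernel checks of the matrix identities for the odd parts of the multiplier of the Tits group.
-/

set_option autoImplicit false
set_option maxRecDepth 20000

namespace Cfsg.Agent.TitsMult

open Cfsg.Lie Cfsg.Agent.Chev Cfsg.Agent.Chev.TwF4 Cfsg.Agent.Chev.TwF4.Two

/-- Image of a bit vector under a list of columns. -/
def appB : List ℕ → ℕ → ℕ → ℕ
  | [], _, _ => 0
  | a :: l, v, j => (bif v.testBit j then a else 0) ^^^ appB l v (j + 1)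

/-- Product of matrices given by columns. -/
def mulB (A B : List ℕ) : List ℕ := B.map fun v => appB A v 0

/-- The identity by columns. -/
def idB : List ℕ := (List.range 52).map fun i => 2 ^ i

/-- The matrix of a word in the letters. -/
def wMat : List ℕ → List ℕ
  | [] => idB
  | i :: w => mulB (cols.getD i []) (wMat w)

/-- Powers of a matrix given by columns. -/
def powB (A : List ℕ) : ℕ → List ℕ
  | 0 => idB
  | n + 1 => mulB A (powB A n)

/-- The products `x ^ i y ^ j c ^ k`. -/
def triples (p q : ℕ) (X Y C : List ℕ) : List (List ℕ) :=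
  (List.range p).flatMap fun i => (List.range p).flatMap fun j => (List.range q).map fun k =>
    mulB (powB X i) (mulB (powB Y j) (powB C k))

/-- The bit mask of the odd entries of a sparse vector. -/
def maskV : V → ℕ
  | [] => 0
  | p :: v => (bif decide (p.2 % 2 = 1) then 2 ^ p.1 else 0) ^^^ maskV v

theorem cols_ck : (((List.range 14).filter fun i => !Nat.beq i 5).all fun i =>
    Nat.beq (cols.getD i []).length 52 && (roots.getD i []).all (fun r => Nat.blt r 48) &&
    (List.range 52).all fun j => Nat.beq
      (maskV (xW2 ((roots.getD i []).map fun r => (r, (1 : ℤ))) j)) ((cols.getD i []).getD j 0)) = true := by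
  decide +kernel

theorem maskV_spec : ∀ (v : V) (k : ℕ), cf v k % 2 = if (maskV v).testBit k then 1 else 0
  | [], k => by simp [maskV, cf]
  | (a, z) :: v, k => by
    have hp : (2 ^ a).testBit k = decide (a = k) := Nat.testBit_two_pow
    have hc : cf ((a, z) :: v) k = (if a = k then z else 0) + cf v k := by
      simp only [cf]
      cases hb : Nat.beq a k
      · rw [if_neg (Nat.ne_of_beq_eq_false hb)]; simp
      · rw [if_pos (Nat.eq_of_beq_eq_true hb)]; simp
    have ih := maskV_spec v k
    rw [hc, Int.add_emod, ih, maskV, Nat.testBit_xor]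
    rcases Int.emod_two_eq_zero_or_one z with e | e <;> by_cases hk : a = k <;>
      cases h : (maskV v).testBit k <;> simp [e, hk, h]

theorem roots_ck : ((List.range 12).all fun i => Nat.beq i 5 || decide (roots.getD i [] = flat (bits (hv.getD i 0)))) = true ∧
    roots.getD 12 [] = [28, 30, 20, 22, 17, 27, 25, 28, 28, 30, 28, 30, 20, 22, 17, 27, 25, 28, 28, 30] ∧
    roots.getD 13 [] = [33, 24, 14, 23, 33, 24, 24, 33, 33, 24, 14, 23, 33, 24, 24, 33] ∧
    rts.getD 3 [] = [28, 30] ∧ rts.getD 0 [] = [24, 33] ∧
    ((xFive ++ yFive ++ gFive ++ xThree ++ yThree ++ gThree ++ cThree).all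
      fun i => Nat.blt i 14 && !Nat.beq i 5) = true := by
  decide +kernel

theorem nP_ck : (F4.pk.allCodes.all fun c => veqm 2
    (xW2 [(33, 1), (24, 1), (14, 1), (23, 1), (33, 1), (24, 1)] c) (sigW F4.pk [0, 3] c)) = true := by
  decide +kernel

theorem xFive_ck : wMat xFive = xFiveMat := by
  decide +kernel

theorem yFive_ck : wMat yFive = yFiveMat := by
  decide +kernel

theorem gFive_ck : wMat gFive = gFiveMat := by
  decide +kernel

theorem xThree_ck : wMat xThree = xThreeMat := by
  decide +kernel

theorem yThree_ck : wMat yThree = yThreeMat := by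
  decide +kernel

theorem gThree_ck : wMat gThree = gThreeMat := by
  decide +kernel

theorem cThree_ck : wMat cThree = cThreeMat := by
  decide +kernel

theorem five_ck : powB xFiveMat 5 = idB ∧ powB yFiveMat 5 = idB ∧
    mulB gFiveMat xFiveMat = mulB (powB xFiveMat 2) gFiveMat ∧
    mulB gFiveMat yFiveMat = mulB (powB yFiveMat 2) gFiveMat ∧
    mulB xFiveMat yFiveMat = mulB yFiveMat xFiveMat := by
  decide +kernel

theorem five_nodup : (triples 5 1 xFiveMat yFiveMat idB).Nodup := by
  decide +kernel

theorem three_ck : powB xThreeMat 3 = idB ∧ powB yThreeMat 3 = idB ∧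
    mulB gThreeMat xThreeMat = mulB (powB xThreeMat 2) gThreeMat ∧
    mulB gThreeMat yThreeMat = mulB (powB yThreeMat 2) gThreeMat ∧
    mulB cThreeMat (mulB yThreeMat xThreeMat) = mulB xThreeMat yThreeMat ∧
    mulB xThreeMat cThreeMat = mulB cThreeMat xThreeMat ∧
    mulB yThreeMat cThreeMat = mulB cThreeMat yThreeMat := by
  decide +kernel

theorem three_nodup : (triples 3 3 xThreeMat yThreeMat cThreeMat).Nodup := by
  decide +kernel

end Cfsg.Agent.TitsMult
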