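import Cfsg.Agent.Lib.TitsMult.Two
import Cfsg.Agent.Lib.TitsMult.OddCheck
import Cfsg.Agent.Lib.SchurSplit.Sylow

/-!
The odd parts of the multiplier of the Tits group, by matrix identities over the field with two elements.
-/

set_option autoImplicit false
set_option maxRecDepth 20000

namespace Cfsg.Agent.TitsMult

open Cfsg.Lie Cfsg.Agent.Chev Cfsg.Agent.Chev.TwF4 Cfsg.Agent.Chev.TwF4.Two
  Cfsg.Agent.Chev.TwF4.Tits

universe u

/-- A prime dividing the order at most once contributes nothing. -/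
theorem noExt_of_squarefree {G : Type u} [Group G] [Finite G] {p : ℕ} (hp : p.Prime)
    (h : ¬ p ^ 2 ∣ Nat.card G) : SchurSplit.NoExt G p := by
  intro E _ _ π hπ hc hcard hd
  haveI := Fact.mk hp
  obtain ⟨S⟩ : Nonempty (Sylow p G) := inferInstance
  have hS : (Nat.card G).factorization p ≤ 1 := by
    by_contra hgt
    exact h ((hp.pow_dvd_iff_le_factorization Nat.card_pos.ne').2 (by omega))
  haveI : IsCyclic (S : Subgroup G) := by
    rcases Nat.le_one_iff_eq_zero_or_eq_one.1 hS with e | e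
    · haveI : Subsingleton (S : Subgroup G) := (Nat.card_eq_one_iff_unique.1
        (by rw [S.card_eq_multiplicity, e, pow_zero])).1
      exact isCyclic_of_subsingleton
    · exact isCyclic_of_prime_card (p := p) (by rw [S.card_eq_multiplicity, e, pow_one])
  exact SchurSplit.false_of_derived π hπ hc hp hcard hd (S : Subgroup G)
    ((hp.coprime_iff_not_dvd).2 S.not_dvd_index) (SchurSplit.comap_of_cyclic π hπ hc _)

variable {K : Type*} [Field K] [CharP K 2] [Fintype K] (hK : Fintype.card K = 2)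

omit [CharP K 2] [Fintype K] in
/-- The matrix with the given columns. -/
noncomputable def bM (A : List ℕ) : Matrix chevF4.Idx chevF4.Idx K :=
  fun a b => if (A.getD (code F4.pk b) 0).testBit (code F4.pk a) then 1 else 0

/-- Indices as numbers below 52. -/
noncomputable def idxEquiv : chevF4.Idx ≃ Fin 52 where
  toFun a := ⟨code F4.pk a, code_lt52 a⟩
  invFun c := idx c
  left_inv a := F4.ok.code_inj (code_idx (code_lt52 a))
  right_inv c := Fin.ext (code_idx c.2)

omit [Fintype K] in
theorem bit_add (u v : Bool) :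
    ((if u then (1 : K) else 0) + if v then 1 else 0) = if xor u v then 1 else 0 := by
  cases u <;> cases v <;> simp [CharTwo.add_self_eq_zero]

omit [Fintype K] in
theorem appB_testBit : ∀ (A : List ℕ) (v j i : ℕ),
    ((if (appB A v j).testBit i then 1 else 0 : K)) =
      ∑ l ∈ Finset.range A.length, (if (A.getD l 0).testBit i then (1 : K) else 0) *
        (if v.testBit (j + l) then 1 else 0)
  | [], v, j, i => by simp [appB]
  | a :: A, v, j, i => by
    rw [List.length_cons, Finset.sum_range_succ', appB, Nat.testBit_xor, ← bit_add, appB_testBit A v (j + 1) i,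
      add_comm]
    congr 1
    · refine Finset.sum_congr rfl fun l _ => ?_
      rw [List.getD_cons_succ, Nat.add_right_comm, Nat.add_assoc]
    · cases h : v.testBit j <;> simp [h]

omit [Fintype K] in
theorem bM_mul {A B : List ℕ} (hA : A.length = 52) (hB : B.length = 52) :
    (bM (mulB A B) : Matrix chevF4.Idx chevF4.Idx K) = bM A * bM B := by
  ext a b
  have hb : code F4.pk b < B.length := hB ▸ code_lt52 b
  have e : (mulB A B).getD (code F4.pk b) 0 = appB A (B.getD (code F4.pk b) 0) 0 := by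
    rw [mulB, List.getD_eq_getElem _ _ (by simpa using hb), List.getD_eq_getElem _ _ hb, List.getElem_map]
  rw [Matrix.mul_apply]
  show (if ((mulB A B).getD (code F4.pk b) 0).testBit (code F4.pk a) then (1 : K) else 0) = _
  rw [e, appB_testBit, hA, ← Fin.sum_univ_eq_sum_range
    (fun l => (if (A.getD l 0).testBit (code F4.pk a) then (1 : K) else 0) *
      (if (B.getD (code F4.pk b) 0).testBit (0 + l) then 1 else 0)), ← idxEquiv.sum_comp]
  refine Finset.sum_congr rfl fun l _ => ?_
  simp only [Nat.zero_add]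
  rfl

omit [Fintype K] in
theorem bM_one : (bM idB : Matrix chevF4.Idx chevF4.Idx K) = 1 := by
  ext a b
  rw [bM, idB, List.getD_eq_getElem _ _ (by simpa using code_lt52 b)]
  simp only [List.getElem_map, List.getElem_range, Nat.testBit_two_pow, decide_eq_true_eq]
  by_cases h : a = b
  · subst h; simp
  · rw [Matrix.one_apply_ne h, if_neg fun e => h (F4.ok.code_inj e.symm)]

theorem wMat_length : ∀ w, (wMat w).length = 52
  | [] => by simp [wMat, idB]
  | i :: w => by simp [wMat, mulB, wMat_length w]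

include hK

theorem fl_roots {i : ℕ} (hi : i < 14) (h5 : i ≠ 5) :
    vl (fl (K := K) hK i) = ((roots.getD i []).map fun r => F4.ok.xG r ((1 : ℤ) : K)).prod := by
  obtain ⟨hr, h12, h13, r3, r0, -⟩ := roots_ck
  rcases Nat.lt_or_ge i 12 with h | h
  · have e := List.all_eq_true.1 hr i (List.mem_range.2 h)
    simp only [Bool.or_eq_true, decide_eq_true_eq, nbeq, h5, false_or] at e
    rw [fl_small hK h, e, el, ← prod_flat]
    exact congrArg List.prod (List.map_congr_left fun r _ => by simp [f1, x])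
  · obtain rfl | rfl : i = 12 ∨ i = 13 := by omega
    · rw [fl_twelve hK, h12, vG, ← n2_word, Two.g, r3]
      simp [Two.f1, x, mul_assoc]
    · have h := word_eq_nW (K := K) (w := [(33, 1), (24, 1), (14, 1), (23, 1), (33, 1), (24, 1)])
        (l := [0, 3]) (by decide +kernel) (wordOk_orb (Or.inl rfl)) nP_ck
      rw [fl_thirteen hK, h13, wG, ← h, Two.g, r0]
      simp [Two.f1, x, mul_assoc]

theorem fl_mat {i : ℕ} (hi : i < 14) (h5 : i ≠ 5) :
    ((vl (fl (K := K) hK i) : GL chevF4.Idx K) : Matrix chevF4.Idx chevF4.Idx K) = bM (cols.getD i []) ∧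
      (cols.getD i []).length = 52 := by
  have h := List.all_eq_true.1 cols_ck i (List.mem_filter.2 ⟨List.mem_range.2 hi, by
    cases hb : Nat.beq i 5
    · rfl
    · exact absurd (Nat.eq_of_beq_eq_true hb) h5⟩)
  simp only [Bool.and_eq_true, List.all_eq_true, List.mem_range, decide_eq_true_eq, Nat.blt_eq] at h
  obtain ⟨⟨hlen, hlt⟩, hcol⟩ := h
  refine ⟨?_, Nat.eq_of_beq_eq_true hlen⟩
  set w := (roots.getD i []).map fun r => (r, (1 : ℤ)) with hw
  have hwr : ∀ g ∈ w, g.1 < F4.pk.nroots := by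
    intro g hg
    obtain ⟨r, hr, rfl⟩ := List.mem_map.1 hg
    exact lt_of_lt_of_le (hlt r hr) (by decide +kernel)
  have e : (vl (fl (K := K) hK i) : GL chevF4.Idx K) = (w.map fun g => F4.ok.xG g.1 (g.2 : K)).prod := by
    rw [fl_roots hK hi h5, hw, List.map_map]
    rfl
  ext a b
  have hb := F4.ok.code_lt b
  rw [e, F4.ok.coe_xW _ hwr, cM_apply, opM_apply, ← (xW2_spec _ hwr _ hb).2]
  set z := cf (xW2 w (code F4.pk b)) (code F4.pk a)
  have hz : z % 2 = if ((cols.getD i []).getD (code F4.pk b) 0).testBit (code F4.pk a) then 1 else 0 := by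
    rw [← Nat.eq_of_beq_eq_true (hcol _ (code_lt52 b))]
    exact maskV_spec _ _
  show (z : K) = if ((cols.getD i []).getD (code F4.pk b) 0).testBit (code F4.pk a) then 1 else 0
  rw [← Int.mul_ediv_add_emod z 2, hz, Int.cast_add, Int.cast_mul, Int.cast_ofNat, two, zero_mul, zero_add]
  split_ifs <;> simp

/-- The element of a word in the letters. -/
noncomputable def wE (w : List ℕ) : ↥(Two.Der K) := (w.map (fl hK)).prod

theorem wE_mat : ∀ w : List ℕ, (∀ i ∈ w, i < 14 ∧ i ≠ 5) →
    ((vl (wE (K := K) hK w) : GL chevF4.Idx K) : Matrix chevF4.Idx chevF4.Idx K) = bM (wMat w)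
  | [], _ => by simp [wE, wMat, bM_one]
  | i :: w, h => by
    obtain ⟨hi, h5⟩ := h i List.mem_cons_self
    obtain ⟨e1, e2⟩ := fl_mat (K := K) hK hi h5
    rw [wMat, bM_mul e2 (wMat_length w), wE, List.map_cons, List.prod_cons, map_mul, Units.val_mul, e1]
    rw [show ((w.map (fl (K := K) hK)).prod) = wE hK w from rfl,
      wE_mat w fun j hj => h j (List.mem_cons_of_mem _ hj)]

/-- An element of the group has the given columns. -/
def HasMat (g : ↥(Two.Der K)) (A : List ℕ) : Prop :=
  ((vl g : GL chevF4.Idx K) : Matrix chevF4.Idx chevF4.Idx K) = bM A ∧ A.length = 52 ∧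
    ∀ v ∈ A, v < 2 ^ 52

omit hK in
theorem bM_inj {A B : List ℕ} (hA : A.length = 52) (hB : B.length = 52)
    (hAlt : ∀ v ∈ A, v < 2 ^ 52) (hBlt : ∀ v ∈ B, v < 2 ^ 52)
    (h : (bM A : Matrix chevF4.Idx chevF4.Idx K) = bM B) : A = B := by
  refine List.ext_getElem (hA.trans hB.symm) fun j h1 h2 => Nat.eq_of_testBit_eq fun i => ?_
  by_cases hi : i < 52
  · have e := congrFun (congrFun h (idx i)) (idx j)
    simp only [bM] at e
    rw [code_idx hi, code_idx (hA ▸ h1), List.getD_eq_getElem _ _ h1, List.getD_eq_getElem _ _ h2] at e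
    cases ha : A[j].testBit i <;> cases hb : B[j].testBit i <;> simp [ha, hb] at e ⊢
  · push Not at hi
    rw [Nat.testBit_eq_false_of_lt (lt_of_lt_of_le (hAlt _ (List.getElem_mem h1)) (Nat.pow_le_pow_right two_pos hi)),
      Nat.testBit_eq_false_of_lt (lt_of_lt_of_le (hBlt _ (List.getElem_mem h2)) (Nat.pow_le_pow_right two_pos hi))]

omit hK [Field K] [CharP K 2] [Fintype K] in
theorem appB_lt : ∀ (A : List ℕ) (v j : ℕ), (∀ a ∈ A, a < 2 ^ 52) → appB A v j < 2 ^ 52
  | [], _, _, _ => by simp [appB]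
  | a :: A, v, j, h => by
    rw [appB]
    refine Nat.xor_lt_two_pow ?_ (appB_lt A v (j + 1) fun x hx => h x (List.mem_cons_of_mem _ hx))
    cases v.testBit j
    · simp
    · exact h a List.mem_cons_self

omit hK [Field K] [CharP K 2] [Fintype K] in
theorem cols_lt : ∀ l ∈ cols, ∀ v ∈ l, v < 2 ^ 52 := by decide +kernel

omit hK [Field K] [CharP K 2] [Fintype K] in
theorem wMat_lt : ∀ w, ∀ v ∈ wMat w, v < 2 ^ 52
  | [], v, hv => by
    simp only [wMat, idB, List.mem_map, List.mem_range] at hv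
    obtain ⟨i, hi, rfl⟩ := hv
    exact Nat.pow_lt_pow_right one_lt_two hi
  | i :: w, v, hv => by
    simp only [wMat, mulB, List.mem_map] at hv
    obtain ⟨u, -, rfl⟩ := hv
    refine appB_lt _ _ _ fun a ha => ?_
    by_cases h : i < cols.length
    · rw [List.getD_eq_getElem _ _ h] at ha
      exact cols_lt _ (List.getElem_mem h) a ha
    · rw [List.getD_eq_default _ _ (not_lt.1 h)] at ha
      simp at ha

theorem HasMat.mul {g h : ↥(Two.Der K)} {A B : List ℕ} (hg : HasMat g A) (hh : HasMat h B) :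
    HasMat (g * h) (mulB A B) :=
  ⟨by rw [bM_mul hg.2.1 hh.2.1, map_mul, Units.val_mul, hg.1, hh.1], by simp [mulB, hh.2.1],
    fun v hv => by
      simp only [mulB, List.mem_map] at hv
      obtain ⟨u, -, rfl⟩ := hv
      exact appB_lt _ _ _ hg.2.2⟩

theorem HasMat.one : HasMat (1 : ↥(Two.Der K)) idB :=
  ⟨by rw [bM_one, map_one, Units.val_one], by simp [idB], wMat_lt []⟩

theorem HasMat.pow {g : ↥(Two.Der K)} {A : List ℕ} (hg : HasMat g A) :
    ∀ n, HasMat (g ^ n) (powB A n)
  | 0 => by rw [pow_zero]; exact HasMat.one hK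
  | n + 1 => by rw [pow_succ']; exact HasMat.mul hK hg (HasMat.pow hg n)

theorem HasMat.ext {g h : ↥(Two.Der K)} {A B : List ℕ} (hg : HasMat g A) (hh : HasMat h B)
    (e : A = B) : g = h :=
  vl_inj (Units.ext (by rw [hg.1, hh.1, e]))

theorem hasMat_word {w : List ℕ} {A : List ℕ} (hl : ∀ i ∈ w, i < 14 ∧ i ≠ 5) (h : wMat w = A) :
    HasMat (wE (K := K) hK w) A :=
  h ▸ ⟨wE_mat hK w hl, wMat_length w, wMat_lt w⟩

theorem card_closure_ge {g₁ g₂ g₃ : ↥(Two.Der K)} {X Y C : List ℕ} {p q : ℕ}
    (h1 : HasMat g₁ X) (h2 : HasMat g₂ Y) (h3 : HasMat g₃ C) (hnd : (triples p q X Y C).Nodup)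
    (hc : g₃ ∈ Subgroup.closure ({g₁, g₂} : Set ↥(Two.Der K))) :
    p * (p * q) ≤ Nat.card ↥(Subgroup.closure ({g₁, g₂} : Set ↥(Two.Der K))) := by
  classical
  set H := Subgroup.closure ({g₁, g₂} : Set ↥(Two.Der K))
  haveI : Finite ↥(Two.Der K) := Nat.finite_of_card_ne_zero (by rw [card_Der hK]; norm_num)
  have hlen : (triples p q X Y C).length = p * (p * q) := by
    simp [triples, List.length_flatMap]
  have hmem : ∀ M ∈ triples p q X Y C, ∃ g ∈ H, HasMat g M := by
    intro M hM
    simp only [triples, List.mem_flatMap, List.mem_map] at hM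
    obtain ⟨i, -, j, -, k, -, rfl⟩ := hM
    exact ⟨g₁ ^ i * (g₂ ^ j * g₃ ^ k), mul_mem (pow_mem (Subgroup.subset_closure (Set.mem_insert _ _)) _)
      (mul_mem (pow_mem (Subgroup.subset_closure (Set.mem_insert_of_mem _ (Set.mem_singleton _))) _) (pow_mem hc _)),
      HasMat.mul hK (HasMat.pow hK h1 i) (HasMat.mul hK (HasMat.pow hK h2 j) (HasMat.pow hK h3 k))⟩
  choose f hfH hfM using hmem
  let F : Fin (triples p q X Y C).length → H := fun e => ⟨f _ (List.get_mem _ e), hfH _ _⟩
  have hF : Function.Injective F := by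
    intro a b h
    have ha := hfM _ (List.get_mem (triples p q X Y C) a)
    have hb := hfM _ (List.get_mem (triples p q X Y C) b)
    have h' : f _ (List.get_mem _ a) = f _ (List.get_mem _ b) := congrArg Subtype.val h
    rw [h'] at ha
    exact List.nodup_iff_injective_get.1 hnd
      (bM_inj ha.2.1 hb.2.1 ha.2.2 hb.2.2 (ha.1.symm.trans hb.1))
  have := Nat.card_le_card_of_injective F hF
  simpa [hlen] using this

theorem letters_ok : ∀ w ∈ [xFive, yFive, gFive, xThree, yThree, gThree, cThree],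
    ∀ i ∈ w, i < 14 ∧ i ≠ 5 := by
  intro w hw i hi
  obtain ⟨-, -, -, -, -, hl⟩ := roots_ck
  have hm : i ∈ xFive ++ yFive ++ gFive ++ xThree ++ yThree ++ gThree ++ cThree := by
    simp only [List.mem_cons, List.not_mem_nil, or_false] at hw
    simp only [List.mem_append]
    rcases hw with rfl | rfl | rfl | rfl | rfl | rfl | rfl <;> tauto
  have := List.all_eq_true.1 hl i hm
  simpa [nbeq] using this

theorem noExt_five : SchurSplit.NoExt ↥(Two.Der K) 5 := by
  intro E _ _ π hπ hc hcard hd
  haveI : Fact (Nat.Prime 5) := ⟨by norm_num⟩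
  obtain ⟨hx, hy, hgx, hgy, hxy⟩ := five_ck
  have mx := hasMat_word (K := K) hK (letters_ok hK xFive (by simp)) xFive_ck
  have my := hasMat_word (K := K) hK (letters_ok hK yFive (by simp)) yFive_ck
  have mg := hasMat_word (K := K) hK (letters_ok hK gFive (by simp)) gFive_ck
  refine false_of_abelian π hπ hc hcard hd (by norm_num)
    (HasMat.ext hK (mx.pow hK 5) (HasMat.one hK) hx) (HasMat.ext hK (my.pow hK 5) (HasMat.one hK) hy)
    (γ := wE hK gFive)
    (mul_inv_eq_iff_eq_mul.2 (HasMat.ext hK (mg.mul hK mx) ((mx.pow hK 2).mul hK mg) hgx))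
    (mul_inv_eq_iff_eq_mul.2 (HasMat.ext hK (mg.mul hK my) ((my.pow hK 2).mul hK mg) hgy))
    (HasMat.ext hK (mx.mul hK my) (my.mul hK mx) hxy) ?_ fun S hS => ?_
  · have := card_closure_ge hK mx my (HasMat.one hK) five_nodup (one_mem _)
    simpa using this
  · have h1 := S.card_mul_index
    rw [hS, card_Der hK] at h1
    norm_num at h1
    rw [show S.index = 718848 by omega]
    norm_num

theorem noExt_three : SchurSplit.NoExt ↥(Two.Der K) 3 := by
  intro E _ _ π hπ hc hcard hd
  haveI : Fact (Nat.Prime 3) := ⟨by norm_num⟩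
  obtain ⟨hx, hy, hgx, hgy, hcd, hxc, hyc⟩ := three_ck
  have mx := hasMat_word (K := K) hK (letters_ok hK xThree (by simp)) xThree_ck
  have my := hasMat_word (K := K) hK (letters_ok hK yThree (by simp)) yThree_ck
  have mg := hasMat_word (K := K) hK (letters_ok hK gThree (by simp)) gThree_ck
  have mc := hasMat_word (K := K) hK (letters_ok hK cThree (by simp)) cThree_ck
  set x' := wE (K := K) hK xThree
  set y' := wE (K := K) hK yThree
  set c' := wE (K := K) hK cThree
  have ecd : c' * (y' * x') = x' * y' := HasMat.ext hK (mc.mul hK (my.mul hK mx)) (mx.mul hK my) hcd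
  have ec : x' * y' * x'⁻¹ * y'⁻¹ = c' := by rw [← ecd]; group
  refine false_of_heisenberg π hπ hc hcard hd (by norm_num)
    (HasMat.ext hK (mx.pow hK 3) (HasMat.one hK) hx) (HasMat.ext hK (my.pow hK 3) (HasMat.one hK) hy)
    (γ := wE hK gThree)
    (mul_inv_eq_iff_eq_mul.2 (HasMat.ext hK (mg.mul hK mx) ((mx.pow hK 2).mul hK mg) hgx))
    (mul_inv_eq_iff_eq_mul.2 (HasMat.ext hK (mg.mul hK my) ((my.pow hK 2).mul hK mg) hgy))
    (ec.symm ▸ HasMat.ext hK (mx.mul hK mc) (mc.mul hK mx) hxc)
    (ec.symm ▸ HasMat.ext hK (my.mul hK mc) (mc.mul hK my) hyc) ?_ fun S hS => ?_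
  · have := card_closure_ge hK mx my mc three_nodup (by
      rw [← ec]
      exact mul_mem (mul_mem (mul_mem (Subgroup.subset_closure (Or.inl rfl))
        (Subgroup.subset_closure (Or.inr rfl))) (inv_mem (Subgroup.subset_closure (Or.inl rfl))))
        (inv_mem (Subgroup.subset_closure (Or.inr rfl))))
    simpa using this
  · have h1 := S.card_mul_index
    rw [hS, card_Der hK] at h1
    norm_num at h1
    rw [show S.index = 665600 by omega]
    norm_num

theorem noExt_all (p : ℕ) (hp : p.Prime) : SchurSplit.NoExt ↥(Two.Der K) p := by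
  by_cases hsq : p ^ 2 ∣ Nat.card ↥(Two.Der K)
  swap
  · haveI : Finite ↥(Two.Der K) := Nat.finite_of_card_ne_zero (by rw [card_Der hK]; norm_num)
    exact noExt_of_squarefree hp hsq
  rw [card_Der hK] at hsq
  obtain rfl | rfl | rfl : p = 2 ∨ p = 3 ∨ p = 5 := by
    have hall : ∀ q ∈ (Nat.primeFactorsList 17971200), q = 2 ∨ q = 3 ∨ q = 5 ∨ q = 13 := by
      intro q hq
      have hq' := Nat.prime_of_mem_primeFactorsList hq
      have hd := Nat.dvd_of_mem_primeFactorsList hq
      rw [show (17971200 : ℕ) = 2 ^ 11 * 3 ^ 3 * 5 ^ 2 * 13 by norm_num] at hd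
      rcases hq'.dvd_mul.1 hd with h | h
      · rcases hq'.dvd_mul.1 h with h | h
        · rcases hq'.dvd_mul.1 h with h | h
          · exact Or.inl ((Nat.prime_dvd_prime_iff_eq hq' Nat.prime_two).1 (hq'.dvd_of_dvd_pow h))
          · exact Or.inr (Or.inl ((Nat.prime_dvd_prime_iff_eq hq' Nat.prime_three).1 (hq'.dvd_of_dvd_pow h)))
        · exact Or.inr (Or.inr (Or.inl ((Nat.prime_dvd_prime_iff_eq hq' (by norm_num)).1 (hq'.dvd_of_dvd_pow h))))
      · exact Or.inr (Or.inr (Or.inr ((Nat.prime_dvd_prime_iff_eq hq' (by norm_num)).1 h)))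
    have h1 : p ∣ 17971200 := by
      have := (dvd_pow_self p two_ne_zero).trans hsq
      norm_num at this ⊢
      exact this
    rcases hall p ((Nat.mem_primeFactorsList (by norm_num)).2 ⟨hp, h1⟩) with h | h | h | h
    · exact Or.inl h
    · exact Or.inr (Or.inl h)
    · exact Or.inr (Or.inr h)
    · subst h; norm_num at hsq
  · exact noExt_two hK
  · exact noExt_three hK
  · exact noExt_five hK

end Cfsg.Agent.TitsMult
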